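import Mathlib

/-!
Birkhoff factorisation of an invertible matrix of Laurent polynomials.
-/

namespace Groth.Agent.BirkhoffLead

universe u

open Polynomial Matrix
open LaurentPolynomial (T)

variable {k : Type u} [Field k]

/-- `k[T] → k[T, T⁻¹]` -/
noncomputable def emb : k[X] →+* LaurentPolynomial k := Polynomial.toLaurent

/-- `k[T] → k[T, T⁻¹]`, `T ↦ T⁻¹` -/
noncomputable def embI : k[X] →+* LaurentPolynomial k :=
  (LaurentPolynomial.invert (R := k)).toRingEquiv.toRingHom.comp Polynomial.toLaurent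

theorem embI_apply (p : k[X]) : embI p = LaurentPolynomial.invert (toLaurent p) := rfl

theorem embI_X_pow (n : ℕ) : embI (X ^ n : k[X]) = T (-(n : ℤ)) := by
  rw [embI_apply, toLaurent_X_pow, LaurentPolynomial.invert_T]

theorem embI_injective : Function.Injective (embI (k := k)) :=
  (LaurentPolynomial.invert (R := k)).injective.comp Polynomial.toLaurent_injective

theorem emb_injective : Function.Injective (emb (k := k)) := Polynomial.toLaurent_injective

theorem emb_X_pow (n : ℕ) : emb (X ^ n : k[X]) = T (n : ℤ) := toLaurent_X_pow n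

theorem T_mul_T (a b : ℤ) : (T a : LaurentPolynomial k) * T b = T (a + b) := (LaurentPolynomial.T_add a b).symm

theorem embI_mul_T (p : k[X]) : embI p * T (p.natDegree : ℤ) = emb p.reverse :=
  (LaurentPolynomial.toLaurent_reverse p).symm

theorem eq_zero_of_embI_eq (p u : k[X]) (e : ℕ) (h : embI p = T ((e : ℤ) + 1) * emb u) : p = 0 := by
  have h2 : emb p.reverse = emb (X ^ (p.natDegree + (e + 1)) * u) := by
    rw [← embI_mul_T, h, map_mul, emb_X_pow, mul_right_comm, T_mul_T]
    push_cast; ring_nf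
  have h3 := emb_injective h2
  by_contra hp
  have hne : p.reverse ≠ 0 := by rwa [Ne, reverse_eq_zero]
  have hu : u ≠ 0 := by rintro rfl; rw [mul_zero] at h3; exact hne h3
  have h4 := reverse_natDegree_le p
  rw [h3, natDegree_mul (pow_ne_zero _ X_ne_zero) hu, natDegree_X_pow] at h4
  omega

theorem exists_common {ι : Type*} [Fintype ι] (f : ι → LaurentPolynomial k) :
    ∃ (N : ℕ) (g : ι → k[X]), ∀ i, f i = T (-(N : ℤ)) * emb (g i) := by
  choose n g hg using fun i => LaurentPolynomial.exists_T_pow (f i)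
  refine ⟨Finset.univ.sup n, fun i => X ^ (Finset.univ.sup n - n i) * g i, fun i => ?_⟩
  have hle : n i ≤ Finset.univ.sup n := Finset.le_sup (Finset.mem_univ i)
  rw [map_mul, emb_X_pow, show emb (g i) = f i * T (n i : ℤ) from hg i, mul_comm (f i), ← mul_assoc, ← mul_assoc,
    T_mul_T, T_mul_T, show -((Finset.univ.sup n : ℕ) : ℤ) + ((Finset.univ.sup n - n i : ℕ) : ℤ) + (n i : ℤ) = 0 by omega,
    LaurentPolynomial.T_zero, one_mul]

theorem split (a : ℤ) (f : LaurentPolynomial k) :
    ∃ p u : k[X], f = T a * embI p + T (a + 1) * emb u := by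
  induction f using LaurentPolynomial.induction_on' with
  | add f g hf hg =>
    obtain ⟨p, u, rfl⟩ := hf; obtain ⟨p', u', rfl⟩ := hg
    exact ⟨p + p', u + u', by rw [map_add, map_add]; ring⟩
  | C_mul_T n c =>
    rcases le_or_gt n a with h | h
    · obtain ⟨m, hm⟩ := Int.le.dest h
      refine ⟨C c * X ^ m, 0, ?_⟩
      rw [map_mul, embI_X_pow, map_zero, mul_zero, add_zero, embI_apply, toLaurent_C,
        LaurentPolynomial.invert_C, mul_left_comm, T_mul_T, show a + -(m : ℤ) = n by omega]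
    · obtain ⟨m, hm⟩ := Int.le.dest (show a + 1 ≤ n by omega)
      refine ⟨0, C c * X ^ m, ?_⟩
      rw [map_mul, emb_X_pow, map_zero, mul_zero, zero_add, mul_left_comm, T_mul_T, hm]
      exact congrArg (· * T n) (toLaurent_C c).symm

theorem divide (g w : k[X]) (hg : g.coeff 0 ≠ 0) (f : LaurentPolynomial k) (h : emb g * f = emb w) :
    ∃ u, f = emb u := by
  obtain ⟨N, u', hu'⟩ := exists_common (fun _ : Unit => f)
  have hu := hu' ()
  have h2 : emb (g * u' ()) = emb (X ^ N * w) := by
    rw [map_mul, map_mul, emb_X_pow, ← h, hu,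
      show (T (N : ℤ) : LaurentPolynomial k) * (emb g * (T (-(N : ℤ)) * emb (u' ()))) =
        T (N : ℤ) * T (-(N : ℤ)) * (emb g * emb (u' ())) by ring, T_mul_T, add_neg_cancel,
      LaurentPolynomial.T_zero, one_mul]
  have h3 := emb_injective h2
  have hcop : IsCoprime (X ^ N : k[X]) g :=
    IsCoprime.pow_left ((irreducible_X.coprime_iff_not_dvd).2 (fun hd => hg (X_dvd_iff.1 hd)))
  obtain ⟨u, hu2⟩ := hcop.dvd_of_dvd_mul_left ⟨w, h3⟩
  refine ⟨u, ?_⟩
  rw [hu, hu2, map_mul, emb_X_pow, ← mul_assoc, T_mul_T, neg_add_cancel, LaurentPolynomial.T_zero, one_mul]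

theorem completion {n : ℕ} (v : Fin (n + 1) → k[X]) (hv : Ideal.span (Set.range v) = ⊤) :
    ∃ Q : Matrix (Fin (n + 1)) (Fin (n + 1)) k[X], IsUnit Q ∧ ∀ i, Q i 0 = v i := by
  classical
  have h1 : (1 : k[X]) ∈ Ideal.span (Set.range v) := by rw [hv]; trivial
  obtain ⟨c, hc⟩ := (Submodule.mem_span_range_iff_exists_fun k[X]).1 h1
  simp only [smul_eq_mul] at hc
  let φ : (Fin (n + 1) → k[X]) →ₗ[k[X]] k[X] := ∑ i, c i • LinearMap.proj i
  have hφ : φ v = 1 := by simp [φ, hc]
  obtain ⟨r, bk⟩ := Submodule.basisOfPid (Pi.basisFun k[X] (Fin (n + 1))) (LinearMap.ker φ)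
  let e : (k[X] × LinearMap.ker φ) ≃ₗ[k[X]] (Fin (n + 1) → k[X]) :=
    LinearEquiv.ofBijective ((LinearMap.toSpanSingleton k[X] _ v).coprod (LinearMap.ker φ).subtype)
      ⟨by
        rw [injective_iff_map_eq_zero]
        rintro ⟨a, x⟩ h
        simp only [LinearMap.coprod_apply, LinearMap.toSpanSingleton_apply, Submodule.subtype_apply] at h
        have := congrArg φ h
        rw [map_add, map_smul, hφ, LinearMap.mem_ker.1 x.2, map_zero, add_zero, smul_eq_mul, mul_one] at this
        subst this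
        simp only [zero_smul, zero_add] at h
        exact Prod.ext rfl (Subtype.ext h),
      fun y => ⟨⟨φ y, ⟨y - φ y • v, by simp [hφ]⟩⟩, by simp⟩⟩
  let b : Module.Basis (Fin 1 ⊕ Fin r) k[X] (Fin (n + 1) → k[X]) :=
    ((Module.Basis.singleton (Fin 1) k[X]).prod bk).map e
  have hr : r = n := by
    have := Fintype.card_congr (b.indexEquiv (Pi.basisFun k[X] (Fin (n + 1))))
    simp at this; omega
  subst hr
  let b' : Module.Basis (Fin (r + 1)) k[X] (Fin (r + 1) → k[X]) :=
    b.reindex ((finSumFinEquiv).trans (finCongr (by omega)))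
  refine ⟨(Pi.basisFun k[X] (Fin (r + 1))).toMatrix b', ?_, fun i => ?_⟩
  · haveI := (Pi.basisFun k[X] (Fin (r + 1))).invertibleToMatrix b'
    exact isUnit_of_invertible _
  · have hb0 : b' 0 = v := by
      have : ((finSumFinEquiv (m := 1) (n := r)).trans (finCongr (by omega : 1 + r = r + 1))).symm 0 = Sum.inl 0 := by
        rw [Equiv.symm_apply_eq]; ext; simp [finSumFinEquiv]
      simp only [b', Module.Basis.reindex_apply, this, b, Module.Basis.map_apply]
      simp [e]
    simp [Module.Basis.toMatrix_apply, hb0]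

variable {n : ℕ}

theorem map_mulVec' (f : k[X] →+* LaurentPolynomial k) (M : Matrix (Fin n) (Fin n) k[X]) (v : Fin n → k[X]) :
    M.map f *ᵥ (fun i => f (v i)) = fun i => f ((M *ᵥ v) i) := by
  funext i; simp [Matrix.mulVec, dotProduct, map_sum]

/-- some nonzero vector of `k[T⁻¹]ⁿ` is sent into `Tᵃ k[T]ⁿ` -/
def Good (A : Matrix (Fin n) (Fin n) (LaurentPolynomial k)) (a : ℤ) : Prop :=
  ∃ v w : Fin n → k[X], v ≠ 0 ∧ A *ᵥ (fun i => embI (v i)) = fun i => T a * emb (w i)

theorem good_exists (A : Matrix (Fin (n + 1)) (Fin (n + 1)) (LaurentPolynomial k)) : ∃ a, Good A a := by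
  obtain ⟨N, g, hg⟩ := exists_common (fun i => A i 0)
  refine ⟨-(N : ℤ), Pi.single 0 1, g, by simp, ?_⟩
  funext i
  rw [← hg i, show (fun i => embI ((Pi.single 0 1 : Fin (n + 1) → k[X]) i)) = Pi.single 0 1 by
    funext j; rcases eq_or_ne j 0 with rfl | hj <;> simp_all]
  simp [Matrix.mulVec_single]

theorem good_bdd (A : Matrix (Fin n) (Fin n) (LaurentPolynomial k)) (hA : IsUnit A) :
    ∃ B : ℤ, ∀ a, Good A a → a ≤ B := by
  obtain ⟨U, rfl⟩ := hA
  obtain ⟨N, g, hg⟩ := exists_common (fun x : Fin n × Fin n => (↑U⁻¹ : Matrix (Fin n) (Fin n) (LaurentPolynomial k)) x.1 x.2)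
  refine ⟨N, fun a ⟨v, w, hv, hvw⟩ => ?_⟩
  by_contra hlt
  push Not at hlt
  obtain ⟨e, he⟩ := Int.le.dest (show (N : ℤ) + 1 ≤ a by omega)
  apply hv
  funext i
  apply eq_zero_of_embI_eq (v i) (∑ j, g (i, j) * w j) e
  have := congrArg ((↑U⁻¹ : Matrix (Fin n) (Fin n) (LaurentPolynomial k)) *ᵥ ·) hvw
  simp only [Matrix.mulVec_mulVec, Units.inv_mul, Matrix.one_mulVec] at this
  rw [congrFun this i, map_sum, Finset.mul_sum]
  simp only [Matrix.mulVec, dotProduct]
  refine Finset.sum_congr rfl fun j _ => ?_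
  rw [show ((↑U⁻¹ : Matrix (Fin n) (Fin n) (LaurentPolynomial k))) i j = _ from hg (i, j), map_mul,
    show (e : ℤ) + 1 = -(N : ℤ) + a by omega, ← T_mul_T]
  ring

theorem first_column (A : Matrix (Fin (n + 1)) (Fin (n + 1)) (LaurentPolynomial k)) (hA : IsUnit A) (a : ℤ)
    (ha : Good A a) (hmax : ∀ a', Good A a' → a' ≤ a) :
    ∃ v w : Fin (n + 1) → k[X], Ideal.span (Set.range v) = ⊤ ∧ Ideal.span (Set.range w) = ⊤ ∧
      A *ᵥ (fun i => embI (v i)) = fun i => T a * emb (w i) := by
  classical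
  obtain ⟨v, w, hv, hvw⟩ := ha
  have hX : ¬ ∀ i, (X : k[X]) ∣ v i := by
    intro h
    choose v' hv' using h
    have hv'0 : v' ≠ 0 := fun h0 => hv (funext fun i => by rw [hv' i, h0]; simp)
    have := hmax (a + 1) ⟨v', w, hv'0, ?_⟩
    · omega
    funext i
    have h1 : (fun i => embI (v i)) = (T (-1) : LaurentPolynomial k) • fun i => embI (v' i) := by
      funext j
      rw [hv' j, map_mul, ← pow_one (X : k[X]), embI_X_pow]; rfl
    rw [h1, Matrix.mulVec_smul] at hvw
    have := congrArg (fun x => T 1 * x) (congrFun hvw i)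
    simp only [Pi.smul_apply, smul_eq_mul, ← mul_assoc, T_mul_T] at this
    rw [show (1 : ℤ) + -1 = 0 from rfl, LaurentPolynomial.T_zero, one_mul] at this
    rw [show a + 1 = 1 + a from add_comm a 1]
    exact this
  obtain ⟨g, hg⟩ := (inferInstance : (Ideal.span (Set.range v)).IsPrincipal).principal
  have hdv : ∀ i, g ∣ v i := fun i => by
    have h' : v i ∈ Ideal.span (Set.range v) := Ideal.subset_span (Set.mem_range_self i)
    rw [hg] at h'
    exact Ideal.mem_span_singleton.1 h'
  have hg0 : g.coeff 0 ≠ 0 := fun h => hX fun i => (X_dvd_iff.2 h).trans (hdv i)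
  have hgne : g ≠ 0 := fun h => hg0 (by rw [h]; simp)
  have hgu : IsUnit g := by
    by_contra hnu
    have he : 0 < g.natDegree := by
      rcases Nat.eq_zero_or_pos g.natDegree with h | h
      · exfalso; apply hnu
        rw [eq_C_of_natDegree_eq_zero h]; exact isUnit_C.2 (isUnit_iff_ne_zero.2 hg0)
      · exact h
    choose v' hv' using hdv
    have hv'0 : v' ≠ 0 := fun h0 => hv (funext fun i => by rw [hv' i, h0]; simp)
    have h1 : (fun i => embI (v i)) = (embI g) • fun i => embI (v' i) := by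
      funext j; rw [hv' j, map_mul]; rfl
    rw [h1, Matrix.mulVec_smul] at hvw
    have h2 : ∀ i, ∃ u, T (-(a + g.natDegree)) * (A *ᵥ fun i => embI (v' i)) i = emb u := by
      intro i
      refine divide g.reverse (w i) ?_ _ ?_
      · rw [coeff_zero_reverse]; exact leadingCoeff_ne_zero.2 hgne
      · have := congrArg (fun x => T (-a) * x) (congrFun hvw i)
        simp only [Pi.smul_apply, smul_eq_mul] at this
        rw [← mul_assoc (T (-a)) (T a), T_mul_T, neg_add_cancel, LaurentPolynomial.T_zero, one_mul] at this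
        rw [← this, ← embI_mul_T, mul_assoc, ← mul_assoc (T (g.natDegree : ℤ)), T_mul_T,
          show (g.natDegree : ℤ) + -(a + g.natDegree) = -a by ring]
        ring
    choose u hu using h2
    have := hmax (a + g.natDegree) ⟨v', u, hv'0, ?_⟩
    · omega
    funext i
    rw [← hu i, ← mul_assoc, T_mul_T, add_neg_cancel, LaurentPolynomial.T_zero, one_mul]
  have hvtop : Ideal.span (Set.range v) = ⊤ := by
    rw [hg]; exact Ideal.span_singleton_eq_top.2 hgu
  obtain ⟨h, hh⟩ := (inferInstance : (Ideal.span (Set.range w)).IsPrincipal).principal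
  have hdw : ∀ i, h ∣ w i := fun i => by
    have h' : w i ∈ Ideal.span (Set.range w) := Ideal.subset_span (Set.mem_range_self i)
    rw [hh] at h'
    exact Ideal.mem_span_singleton.1 h'
  have hh0 : h.coeff 0 ≠ 0 := by
    intro h'
    have hXw : ∀ i, (X : k[X]) ∣ w i := fun i => (X_dvd_iff.2 h').trans (hdw i)
    choose w' hw' using hXw
    have := hmax (a + 1) ⟨v, w', hv, ?_⟩
    · omega
    rw [hvw]; funext i
    rw [hw' i, map_mul, ← pow_one (X : k[X]), emb_X_pow, ← mul_assoc, T_mul_T]; rfl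
  refine ⟨v, w, hvtop, ?_, hvw⟩
  rw [hh]
  refine Ideal.span_singleton_eq_top.2 ?_
  choose w' hw' using hdw
  obtain ⟨U, hU⟩ := hA
  obtain ⟨c, hc⟩ := (Submodule.mem_span_range_iff_exists_fun k[X]).1 (hvtop ▸ Submodule.mem_top (x := (1 : k[X])))
  have hv2 : ∀ i, emb h ∣ embI (v i) := by
    intro i
    have hvi := congrArg ((↑U⁻¹ : Matrix (Fin (n + 1)) (Fin (n + 1)) (LaurentPolynomial k)) *ᵥ ·) hvw
    simp only [← hU, Matrix.mulVec_mulVec, Units.inv_mul, Matrix.one_mulVec] at hvi
    rw [congrFun hvi i]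
    simp only [Matrix.mulVec, dotProduct]
    refine Finset.dvd_sum fun j _ => ?_
    rw [hw' j, map_mul]
    exact Dvd.intro _ (by ring : emb h * ((↑U⁻¹ : Matrix (Fin (n + 1)) (Fin (n + 1)) (LaurentPolynomial k)) i j *
      (T a * emb (w' j))) = _)
  have h1 : emb h ∣ 1 := by
    rw [← map_one (embI (k := k)), ← hc, map_sum]
    exact Finset.dvd_sum fun j _ => by rw [smul_eq_mul, map_mul]; exact Dvd.dvd.mul_left (hv2 j) _
  obtain ⟨f, hf⟩ := h1
  obtain ⟨u, hu⟩ := divide h 1 hh0 f (by rw [map_one, hf])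
  rw [hu, ← map_mul, ← map_one (emb (k := k))] at hf
  exact IsUnit.of_mul_eq_one u (emb_injective hf).symm

/-- `[[1, 0], [0, M]]` -/
def ext1 {R : Type*} [Zero R] [One R] (M : Matrix (Fin n) (Fin n) R) : Matrix (Fin (n + 1)) (Fin (n + 1)) R :=
  Matrix.of (Fin.cons (Fin.cons 1 0) fun i => Fin.cons 0 (M i))

theorem ext1_det {R : Type*} [CommRing R] (M : Matrix (Fin n) (Fin n) R) : (ext1 M).det = M.det := by
  rw [det_succ_column_zero, Fin.sum_univ_succ]
  simp [ext1, submatrix]
  rfl

theorem ext1_map {R S : Type*} [CommRing R] [CommRing S] (f : R →+* S) (M : Matrix (Fin n) (Fin n) R) :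
    (ext1 M).map f = ext1 (M.map f) := by
  ext i j
  induction i using Fin.cases <;> induction j using Fin.cases <;> simp [ext1]

/-- `[[c, r], [0, M]]` -/
def block {R : Type*} [Zero R] (c : R) (r : Fin n → R) (M : Matrix (Fin n) (Fin n) R) :
    Matrix (Fin (n + 1)) (Fin (n + 1)) R :=
  Matrix.of (Fin.cons (Fin.cons c r) fun i => Fin.cons 0 (M i))

theorem block_mul {R : Type*} [CommRing R] (c c' : R) (r r' : Fin n → R) (M M' : Matrix (Fin n) (Fin n) R) :
    block c r M * block c' r' M' = block (c * c') (fun j => c * r' j + (r ᵥ* M') j) (M * M') := by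
  ext i j
  induction i using Fin.cases <;> induction j using Fin.cases <;>
    simp [block, Matrix.mul_apply, Fin.sum_univ_succ, Matrix.vecMul, dotProduct]

theorem block_det {R : Type*} [CommRing R] (c : R) (r : Fin n → R) (M : Matrix (Fin n) (Fin n) R) :
    (block c r M).det = c * M.det := by
  rw [det_succ_column_zero, Fin.sum_univ_succ]
  simp [block, submatrix]
  rfl

theorem block_map {R S : Type*} [CommRing R] [CommRing S] (f : R →+* S) (c : R) (r : Fin n → R)
    (M : Matrix (Fin n) (Fin n) R) : (block c r M).map f = block (f c) (fun j => f (r j)) (M.map f) := by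
  ext i j
  induction i using Fin.cases <;> induction j using Fin.cases <;> simp [block]

theorem block_diag {R : Type*} [CommRing R] (c : R) (d : Fin n → R) :
    block c 0 (Matrix.diagonal d) = Matrix.diagonal (Fin.cons c d) := by
  ext i j
  induction i using Fin.cases <;> induction j using Fin.cases <;>
    simp [block, Matrix.diagonal, Fin.succ_ne_zero, (Fin.succ_ne_zero _).symm]

theorem birkhoff : ∀ (n : ℕ) (A : Matrix (Fin n) (Fin n) (LaurentPolynomial k)), IsUnit A →
    ∃ (P Q : Matrix (Fin n) (Fin n) k[X]) (d : Fin n → ℤ), IsUnit P ∧ IsUnit Q ∧ Antitone d ∧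
      A = P.map emb * Matrix.diagonal (fun i => T (d i)) * Q.map embI := by
  intro n
  induction n with
  | zero =>
    intro A _
    exact ⟨1, 1, Fin.elim0, isUnit_one, isUnit_one, fun i => i.elim0, Subsingleton.elim _ _⟩
  | succ n ih =>
    intro A hA
    classical
    obtain ⟨B, hB⟩ := good_bdd A hA
    obtain ⟨a, ha, hmax⟩ := Int.exists_greatest_of_bdd ⟨B, hB⟩ (good_exists A)
    obtain ⟨v, w, hv, hw, hvw⟩ := first_column A hA a ha hmax
    obtain ⟨P₀, hP₀, hPcol⟩ := completion w hw
    obtain ⟨Q₀, hQ₀, hQcol⟩ := completion v hv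
    obtain ⟨P₀u, rfl⟩ := hP₀
    obtain ⟨Q₀u, rfl⟩ := hQ₀
    obtain ⟨A₁, hA₁⟩ : ∃ M, M = (↑P₀u⁻¹ : Matrix (Fin (n + 1)) (Fin (n + 1)) k[X]).map emb * A * (↑Q₀u : Matrix (Fin (n + 1)) (Fin (n + 1)) k[X]).map embI := ⟨_, rfl⟩
    have hPP : (↑P₀u : Matrix (Fin (n + 1)) (Fin (n + 1)) k[X]).map emb * (↑P₀u⁻¹ : Matrix (Fin (n + 1)) (Fin (n + 1)) k[X]).map emb = 1 := by
      rw [← Matrix.map_mul, Units.mul_inv, Matrix.map_one _ (map_zero _) (map_one _)]
    have hPP' : (↑P₀u⁻¹ : Matrix (Fin (n + 1)) (Fin (n + 1)) k[X]).map emb * (↑P₀u : Matrix (Fin (n + 1)) (Fin (n + 1)) k[X]).map emb = 1 := by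
      rw [← Matrix.map_mul, Units.inv_mul, Matrix.map_one _ (map_zero _) (map_one _)]
    have hQQ : (↑Q₀u : Matrix (Fin (n + 1)) (Fin (n + 1)) k[X]).map embI * (↑Q₀u⁻¹ : Matrix (Fin (n + 1)) (Fin (n + 1)) k[X]).map embI = 1 := by
      rw [← Matrix.map_mul, Units.mul_inv, Matrix.map_one _ (map_zero _) (map_one _)]
    have hAA : A = (↑P₀u : Matrix (Fin (n + 1)) (Fin (n + 1)) k[X]).map emb * A₁ * (↑Q₀u⁻¹ : Matrix (Fin (n + 1)) (Fin (n + 1)) k[X]).map embI := by
      rw [hA₁, Matrix.mul_assoc, Matrix.mul_assoc _ ((↑Q₀u : Matrix (Fin (n + 1)) (Fin (n + 1)) k[X]).map embI), hQQ, Matrix.mul_one,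
        ← Matrix.mul_assoc, hPP, Matrix.one_mul]
    have hA₁u : IsUnit A₁ := by
      rw [hA₁]
      exact ((Units.isUnit P₀u⁻¹).map emb.mapMatrix).mul hA |>.mul ((Units.isUnit Q₀u).map embI.mapMatrix)
    have hcol : ∀ i, A₁ i 0 = T a * (if i = 0 then 1 else 0) := by
      intro i
      have h1 : A₁ *ᵥ Pi.single 0 1 = fun i => T a * (if i = 0 then 1 else 0) := by
        rw [hA₁, ← Matrix.mulVec_mulVec, ← Matrix.mulVec_mulVec]
        have h2 : (↑Q₀u : Matrix (Fin (n + 1)) (Fin (n + 1)) k[X]).map embI *ᵥ Pi.single 0 1 = fun i => embI (v i) := by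
          funext i; simp [Matrix.mulVec_single, hQcol]
        rw [h2, hvw]
        have h3 : (fun i => T a * emb (w i)) = (T a : LaurentPolynomial k) •
            ((↑P₀u : Matrix (Fin (n + 1)) (Fin (n + 1)) k[X]).map emb *ᵥ Pi.single 0 1) := by
          funext i; simp [Matrix.mulVec_single, hPcol]
        rw [h3, Matrix.mulVec_smul, Matrix.mulVec_mulVec, hPP', Matrix.one_mulVec]
        funext i; simp [Pi.single_apply]
      simpa [Matrix.mulVec_single] using congrFun h1 i
    have hmax₁ : ∀ a', Good A₁ a' → a' ≤ a := by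
      rintro a' ⟨v', w', hv', hvw'⟩
      refine hmax a' ⟨(↑Q₀u : Matrix (Fin (n + 1)) (Fin (n + 1)) k[X]) *ᵥ v', (↑P₀u : Matrix (Fin (n + 1)) (Fin (n + 1)) k[X]) *ᵥ w', ?_, ?_⟩
      · intro h0
        apply hv'
        have := congrArg ((↑Q₀u⁻¹ : Matrix (Fin (n + 1)) (Fin (n + 1)) k[X]) *ᵥ ·) h0
        simpa [Matrix.mulVec_mulVec] using this
      · rw [← map_mulVec' embI, hAA, ← Matrix.mulVec_mulVec, Matrix.mulVec_mulVec _ ((↑Q₀u⁻¹ : Matrix (Fin (n + 1)) (Fin (n + 1)) k[X]).map embI),
          ← Matrix.map_mul, Units.inv_mul, Matrix.map_one _ (map_zero _) (map_one _), Matrix.one_mulVec,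
          ← Matrix.mulVec_mulVec, hvw']
        have : (fun i => T a' * emb (w' i)) = (T a' : LaurentPolynomial k) • fun i => emb (w' i) := rfl
        rw [this, Matrix.mulVec_smul, map_mulVec']; rfl
    obtain ⟨r₀, hr₀⟩ : ∃ r : Fin n → LaurentPolynomial k, r = fun j => A₁ 0 j.succ := ⟨_, rfl⟩
    obtain ⟨B₀, hB₀⟩ : ∃ M : Matrix (Fin n) (Fin n) (LaurentPolynomial k), M = A₁.submatrix Fin.succ Fin.succ := ⟨_, rfl⟩
    have hblk : A₁ = block (T a) r₀ B₀ := by
      ext i j
      induction i using Fin.cases <;> induction j using Fin.cases <;> simp [block, hr₀, hB₀, hcol, Fin.succ_ne_zero]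
    have hBu : IsUnit B₀ := by
      rw [Matrix.isUnit_iff_isUnit_det] at hA₁u ⊢
      rw [hblk, block_det] at hA₁u
      exact isUnit_of_mul_isUnit_right hA₁u
    obtain ⟨P', Q', d, hP', hQ', hd, hBD⟩ := ih B₀ hBu
    obtain ⟨P'u, rfl⟩ := hP'
    obtain ⟨Q'u, rfl⟩ := hQ'
    obtain ⟨r, hr⟩ : ∃ r, r = r₀ ᵥ* (↑Q'u⁻¹ : Matrix (Fin n) (Fin n) k[X]).map embI := ⟨_, rfl⟩
    have hQ'Q : (↑Q'u⁻¹ : Matrix (Fin n) (Fin n) k[X]).map embI * (↑Q'u : Matrix (Fin n) (Fin n) k[X]).map embI = 1 := by
      rw [← Matrix.map_mul, Units.inv_mul, Matrix.map_one _ (map_zero _) (map_one _)]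
    have hA₂ : A₁ = block 1 0 ((↑P'u : Matrix (Fin n) (Fin n) k[X]).map emb) * block (T a) r (Matrix.diagonal fun i => T (d i)) *
        block 1 0 ((↑Q'u : Matrix (Fin n) (Fin n) k[X]).map embI) := by
      rw [hblk, block_mul, block_mul, ← hBD]
      congr 1
      · simp
      · funext j
        simp [hr, Matrix.vecMul_vecMul, hQ'Q]
    have hle : ∀ i, d i ≤ a := by
      intro i
      by_contra hgt
      push Not at hgt
      obtain ⟨p, u, hpu⟩ := split a (r i)
      obtain ⟨e, he⟩ := Int.le.dest (show a + 1 ≤ d i by omega)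
      have := hmax₁ (a + 1) ?_
      · omega
      refine ⟨(ext1 (↑Q'u⁻¹ : Matrix (Fin n) (Fin n) k[X])) *ᵥ Fin.cons (-p) (Pi.single i 1),
        (ext1 (↑P'u : Matrix (Fin n) (Fin n) k[X])) *ᵥ Fin.cons u (Pi.single i (X ^ e)), ?_, ?_⟩
      · intro h0
        have h0' := congrArg ((ext1 (↑Q'u : Matrix (Fin n) (Fin n) k[X])) *ᵥ ·) h0
        have hee : ext1 (↑Q'u : Matrix (Fin n) (Fin n) k[X]) * ext1 (↑Q'u⁻¹ : Matrix (Fin n) (Fin n) k[X]) = 1 := by
          change block 1 0 _ * block 1 0 _ = _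
          rw [block_mul, Units.mul_inv]
          ext i j
          induction i using Fin.cases <;> induction j using Fin.cases <;>
            simp [block, Matrix.one_apply, Fin.succ_ne_zero, (Fin.succ_ne_zero _).symm]
        simp only [Matrix.mulVec_mulVec, hee, Matrix.one_mulVec, Matrix.mulVec_zero] at h0'
        have := congrFun h0' i.succ
        simp at this
      · rw [← map_mulVec' embI, ext1_map, hA₂, ← Matrix.mulVec_mulVec, Matrix.mulVec_mulVec _ _ (ext1 _)]
        have hone : block 1 0 ((↑Q'u : Matrix (Fin n) (Fin n) k[X]).map embI) * ext1 ((↑Q'u⁻¹ : Matrix (Fin n) (Fin n) k[X]).map embI) = 1 := by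
          change _ * block 1 0 _ = _
          rw [block_mul, ← Matrix.map_mul, Units.mul_inv, Matrix.map_one _ (map_zero _) (map_one _)]
          ext i j
          induction i using Fin.cases <;> induction j using Fin.cases <;>
            simp [block, Matrix.one_apply, Fin.succ_ne_zero, (Fin.succ_ne_zero _).symm]
        rw [hone, Matrix.one_mulVec, ← Matrix.mulVec_mulVec]
        have hmid : block (T a) r (Matrix.diagonal fun i => T (d i)) *ᵥ
            (fun j => embI ((Fin.cons (-p) (Pi.single i 1) : Fin (n + 1) → k[X]) j)) =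
            (T (a + 1) : LaurentPolynomial k) • fun j => emb ((Fin.cons u (Pi.single i (X ^ e)) : Fin (n + 1) → k[X]) j) := by
          funext j
          induction j using Fin.cases with
          | zero =>
            have : ∀ x, embI ((Pi.single i (1 : k[X]) : Fin n → k[X]) x) = if x = i then 1 else 0 := fun x => by
              rw [Pi.single_apply]; split_ifs <;> simp
            simp [block, Matrix.mulVec, dotProduct, Fin.sum_univ_succ, this, hpu]
          | succ j =>
            rcases eq_or_ne j i with rfl | hji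
            · simp [block, Matrix.mulVec, dotProduct, Fin.sum_univ_succ, Matrix.diagonal_apply, Pi.single_apply, apply_ite embI, map_one, map_zero]
              rw [← map_pow, emb_X_pow, T_mul_T, ← he, add_comm (a + 1)]
            · simp [block, Matrix.mulVec, dotProduct, Fin.sum_univ_succ, Matrix.diagonal_apply, hji]
        rw [hmid, Matrix.mulVec_smul]
        rw [show block 1 0 ((↑P'u : Matrix (Fin n) (Fin n) k[X]).map emb) = (ext1 (↑P'u : Matrix (Fin n) (Fin n) k[X])).map emb by
          rw [ext1_map]; rfl, map_mulVec']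
        rfl
    -- clear the first row
    choose p u hpu using fun i => split a (r i)
    choose e he using fun i => Int.le.dest (show d i ≤ a + 1 by have := hle i; omega)
    obtain ⟨s, hs⟩ : ∃ s : Fin n → k[X], s = fun i => X ^ e i * u i := ⟨_, rfl⟩
    have hfin : block (T a) r (Matrix.diagonal fun i => T (d i)) =
        (block 1 s 1).map emb * Matrix.diagonal (fun i => T ((Fin.cons a d : Fin (n + 1) → ℤ) i)) * (block 1 p 1).map embI := by
      rw [block_map, block_map, map_one, map_one, Matrix.map_one _ (map_zero _) (map_one _),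
        Matrix.map_one _ (map_zero _) (map_one _),
        show Matrix.diagonal (fun i => (T ((Fin.cons a d : Fin (n + 1) → ℤ) i) : LaurentPolynomial k)) =
          block (T a) 0 (Matrix.diagonal fun i => T (d i)) by
          rw [block_diag]; congr 1; funext i; induction i using Fin.cases <;> simp,
        block_mul, block_mul]
      congr 1
      · simp
      · funext j
        simp only [one_mul, Pi.zero_apply, mul_zero, zero_add, Matrix.vecMul_one, Matrix.vecMul_diagonal]
        rw [hpu j, hs, map_mul, emb_X_pow, ← he j, ← T_mul_T]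
        ring
      · simp
    refine ⟨(↑P₀u : Matrix (Fin (n + 1)) (Fin (n + 1)) k[X]) * ext1 (↑P'u : Matrix (Fin n) (Fin n) k[X]) * block 1 s 1,
      block 1 p 1 * ext1 (↑Q'u : Matrix (Fin n) (Fin n) k[X]) * (↑Q₀u⁻¹ : Matrix (Fin (n + 1)) (Fin (n + 1)) k[X]), Fin.cons a d, ?_, ?_, ?_, ?_⟩
    · rw [Matrix.isUnit_iff_isUnit_det, det_mul, det_mul, ext1_det, block_det, det_one, mul_one, mul_one]
      exact ((Matrix.isUnit_iff_isUnit_det _).1 P₀u.isUnit).mul ((Matrix.isUnit_iff_isUnit_det _).1 P'u.isUnit)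
    · rw [Matrix.isUnit_iff_isUnit_det, det_mul, det_mul, ext1_det, block_det, det_one, mul_one, one_mul]
      exact ((Matrix.isUnit_iff_isUnit_det _).1 Q'u.isUnit).mul ((Matrix.isUnit_iff_isUnit_det _).1 Q₀u⁻¹.isUnit)
    · intro i j hij
      induction i using Fin.cases with
      | zero => induction j using Fin.cases <;> simp [hle]
      | succ i =>
        induction j using Fin.cases with
        | zero => exact absurd hij (by simp)
        | succ j => simp; exact hd (Fin.succ_le_succ_iff.1 hij)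
    · rw [hAA, hA₂, hfin]
      simp only [Matrix.map_mul, ext1_map]
      simp only [ext1, block, Matrix.mul_assoc]

end Groth.Agent.BirkhoffLead
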